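import Groth.Agent.Sga4B.P1Hyper441
import Mathlib.Algebra.Polynomial.Laurent

/-!
# The overlap of the two standard charts of the projective line over a ring

`isPullback A : IsPullback (Spec.map l0) (Spec.map l1) (v0 A) (v1 A)`, `l0, l1 : A[X] → A[T;T⁻¹]`, `X ↦ T`, `X ↦ T⁻¹`;
`cover`: the charts cover; `hom_ext`: morphisms from the projective line are determined on the charts.
-/

set_option autoImplicit false
universe u

open CategoryTheory CategoryTheory.Limits AlgebraicGeometry
open scoped LaurentPolynomial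
open Groth.Agent.Sga5.ProjChart Groth.Agent.Sga5.ProjSmooth Groth.Agent.Sga4B.P1Hyper HomogeneousLocalization

namespace K681.P1Ov

variable (A : Type u) [CommRing A]

/-- The chart `[1 : t]` of the projective line. -/
noncomputable abbrev v (i : Fin 2) : Spec (CommRingCat.of (Polynomial A)) ⟶ CohB1.ProjSpace 1 A :=
  Spec.map (CommRingCat.ofHom (w A)) ≫ chart 1 A i

instance isOpenImmersion_v (i : Fin 2) : IsOpenImmersion (v A i) := by
  have h : IsOpenImmersion (chart 1 A i) := isOpenImmersion_chart 1 A i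
  infer_instance

/-- `X ↦ T`. -/
noncomputable abbrev l0 : Polynomial A →+* A[T;T⁻¹] := Polynomial.toLaurent

/-- `X ↦ T⁻¹`. -/
noncomputable abbrev l1 : Polynomial A →+* A[T;T⁻¹] :=
  (LaurentPolynomial.invert : A[T;T⁻¹] ≃ₐ[A] A[T;T⁻¹]).toRingEquiv.toRingHom.comp Polynomial.toLaurent

lemma l1_C (a : A) : l1 A (Polynomial.C a) = LaurentPolynomial.C a := by
  change LaurentPolynomial.invert (Polynomial.toLaurent (Polynomial.C a)) = _
  rw [Polynomial.toLaurent_C, LaurentPolynomial.invert_C]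

lemma l1_X : l1 A Polynomial.X = LaurentPolynomial.T (-1) := by
  change LaurentPolynomial.invert (Polynomial.toLaurent Polynomial.X) = _
  rw [Polynomial.toLaurent_X, LaurentPolynomial.invert_T]

/-- The values of the homogeneous coordinates. -/
noncomputable def ev : MvPolynomial (Fin (1 + 1)) A →+* A[T;T⁻¹] :=
  MvPolynomial.eval₂Hom LaurentPolynomial.C ![1, LaurentPolynomial.T 1]

lemma isUnit_ev (i : Fin (1 + 1)) : IsUnit (ev A (MvPolynomial.X i)) := by
  rw [ev, MvPolynomial.coe_eval₂Hom, MvPolynomial.eval₂_X]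
  fin_cases i
  · exact isUnit_one
  · exact LaurentPolynomial.isUnit_T 1

lemma isUnit_ev' (i j : Fin (1 + 1)) : IsUnit (ev A (MvPolynomial.X i * MvPolynomial.X j)) := by
  rw [map_mul]
  exact (isUnit_ev A i).mul (isUnit_ev A j)

/-- The map from the degree-zero localization at `X_i X_j` to the Laurent polynomials. -/
noncomputable def lft (x : MvPolynomial (Fin (1 + 1)) A) (hx : IsUnit (ev A x)) :
    Localization.Away x →+* A[T;T⁻¹] := IsLocalization.Away.lift x (g := ev A) hx

lemma lft_alg (x : MvPolynomial (Fin (1 + 1)) A) (hx : IsUnit (ev A x)) (p : MvPolynomial (Fin (1 + 1)) A) :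
    lft A x hx (algebraMap _ _ p) = ev A p := IsLocalization.Away.lift_eq _ _ _

/-- The map from the degree-zero localization to the Laurent polynomials. -/
noncomputable def φ (x : MvPolynomial (Fin (1 + 1)) A) (hx : IsUnit (ev A x)) :
    Away (CohB1.polyGrading 1 A) x →+* A[T;T⁻¹] := (lft A x hx).comp (algebraMap _ (Localization.Away x))

/-- The coordinate of the chart `i` as a Laurent polynomial. -/
theorem φ_awayMap (i j : Fin (1 + 1)) (x : MvPolynomial (Fin (1 + 1)) A) (hx : x = MvPolynomial.X i * MvPolynomial.X j)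
    (l : Polynomial A →+* A[T;T⁻¹]) (hC : ∀ a, l (Polynomial.C a) = LaurentPolynomial.C a)
    (hX : l Polynomial.X * ev A (MvPolynomial.X i) = ev A (MvPolynomial.X (i.succAbove 0)))
    (hx' : IsUnit (ev A x)) :
    (φ A x hx').comp (awayMap (CohB1.polyGrading 1 A) (X_mem 1 A j) hx) =
      (l.comp (w A)).comp (chartEquiv 1 A i).symm.toRingHom := by
  have key : ∀ p : MvPolynomial (Fin 1) A, φ A x hx' (awayMap (CohB1.polyGrading 1 A) (X_mem 1 A j) hx
      (chartEquiv 1 A i p)) = l (w A p) := by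
    intro p
    change ((φ A x hx').comp ((awayMap (CohB1.polyGrading 1 A) (X_mem 1 A j) hx).comp
      (chartEquiv 1 A i).toRingHom)) p = (l.comp (w A)) p
    congr 1
    have hval : ∀ a : Away (CohB1.polyGrading 1 A) (MvPolynomial.X i),
        φ A x hx' (awayMap (CohB1.polyGrading 1 A) (X_mem 1 A j) hx a) =
          ((lft A x hx').comp (Localization.awayLift (algebraMap _ (Localization.Away x)) (MvPolynomial.X i)
            (isUnit_of_dvd_unit (map_dvd _ ⟨_, hx⟩) (IsLocalization.Away.algebraMap_isUnit x)))) a.val := by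
      intro a
      change lft A x hx' (awayMap (CohB1.polyGrading 1 A) (X_mem 1 A j) hx a).val = _
      rw [val_awayMap]
      rfl
    have halg : ∀ p : MvPolynomial (Fin (1 + 1)) A, ((lft A x hx').comp (Localization.awayLift
        (algebraMap _ (Localization.Away x)) (MvPolynomial.X i)
          (isUnit_of_dvd_unit (map_dvd _ ⟨_, hx⟩) (IsLocalization.Away.algebraMap_isUnit x))))
            (algebraMap _ _ p) = ev A p := by
      intro p
      rw [RingHom.comp_apply]
      exact (congrArg (lft A x hx') (IsLocalization.Away.lift_eq _ _ _)).trans (lft_alg A x hx' p)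
    apply MvPolynomial.ringHom_ext
    · intro r
      change φ A x hx' (awayMap (CohB1.polyGrading 1 A) (X_mem 1 A j) hx (chartEquiv 1 A i (MvPolynomial.C r))) =
        l (w A (MvPolynomial.C r))
      rw [chartEquiv_C, hval, val_chartC, halg]
      simp [w, ev, hC]
    · intro r
      change φ A x hx' (awayMap (CohB1.polyGrading 1 A) (X_mem 1 A j) hx (chartEquiv 1 A i (MvPolynomial.X r))) =
        l (w A (MvPolynomial.X r))
      rw [chartEquiv_X, hval]
      obtain rfl : r = 0 := Subsingleton.elim _ _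
      refine (isUnit_ev A i).mul_right_cancel ?_
      rw [← halg (MvPolynomial.X i), ← map_mul, val_coord_mul 1 A i (i.succAbove 0), halg, halg, ← hX]
      simp [w]
  ext z
  obtain ⟨p, rfl⟩ := (chartEquiv 1 A i).surjective z
  have h2 : (chartEquiv 1 A i).symm.toRingHom (chartEquiv 1 A i p) = p := (chartEquiv 1 A i).symm_apply_apply p
  rw [RingHom.comp_apply, RingHom.comp_apply, h2, key]
  rfl

theorem map_v (i j : Fin (1 + 1)) (x : MvPolynomial (Fin (1 + 1)) A) (hx : x = MvPolynomial.X i * MvPolynomial.X j)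
    (l : Polynomial A →+* A[T;T⁻¹]) (hC : ∀ a, l (Polynomial.C a) = LaurentPolynomial.C a)
    (hX : l Polynomial.X * ev A (MvPolynomial.X i) = ev A (MvPolynomial.X (i.succAbove 0)))
    (hx' : IsUnit (ev A x)) (hm : x ∈ CohB1.polyGrading 1 A 2) :
    Spec.map (CommRingCat.ofHom l) ≫ v A i =
      Spec.map (CommRingCat.ofHom (φ A x hx')) ≫ Proj.awayι (CohB1.polyGrading 1 A) x hm two_pos := by
  let aw : Spec (CommRingCat.of (Away (CohB1.polyGrading 1 A) (MvPolynomial.X i))) ⟶ CohB1.ProjSpace 1 A :=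
    Proj.awayι (CohB1.polyGrading 1 A) (MvPolynomial.X i) (X_mem 1 A i) Nat.one_pos
  let ax : Spec (CommRingCat.of (Away (CohB1.polyGrading 1 A) x)) ⟶ CohB1.ProjSpace 1 A :=
    Proj.awayι (CohB1.polyGrading 1 A) x hm two_pos
  have h2 : Spec.map (CommRingCat.ofHom (awayMap (CohB1.polyGrading 1 A) (X_mem 1 A j) hx)) ≫ aw = ax :=
    Proj.SpecMap_awayMap_awayι (CohB1.polyGrading 1 A) (X_mem 1 A i) Nat.one_pos (X_mem 1 A j) hx
  have e1 : Spec.map (CommRingCat.ofHom l) ≫ v A i =
      Spec.map (CommRingCat.ofHom ((l.comp (w A)).comp (chartEquiv 1 A i).symm.toRingHom)) ≫ aw := by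
    change Spec.map (CommRingCat.ofHom l) ≫ Spec.map (CommRingCat.ofHom (w A)) ≫
      Spec.map (CommRingCat.ofHom (chartEquiv 1 A i).symm.toRingHom) ≫ aw = _
    rw [← Category.assoc, ← Spec.map_comp, ← Category.assoc, ← Spec.map_comp]
    rfl
  have e2 : Spec.map (CommRingCat.ofHom (φ A x hx')) ≫ ax = Spec.map (CommRingCat.ofHom ((φ A x hx').comp
      (awayMap (CohB1.polyGrading 1 A) (X_mem 1 A j) hx))) ≫ aw := by
    rw [← h2, ← Category.assoc, ← Spec.map_comp]
    rfl
  rw [e1]
  refine Eq.trans ?_ e2.symm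
  rw [φ_awayMap A i j x hx l hC hX hx']

theorem ov : Spec.map (CommRingCat.ofHom (l0 A)) ≫ v A 0 = Spec.map (CommRingCat.ofHom (l1 A)) ≫ v A 1 := by
  have hm : (MvPolynomial.X 0 * MvPolynomial.X 1 : MvPolynomial (Fin (1 + 1)) A) ∈ CohB1.polyGrading 1 A 2 :=
    SetLike.mul_mem_graded (X_mem 1 A 0) (X_mem 1 A 1)
  rw [map_v A 0 1 _ rfl (l0 A) (fun a => Polynomial.toLaurent_C a) ?_ (isUnit_ev' A 0 1) hm,
    map_v A 1 0 _ (mul_comm _ _) (l1 A) (l1_C A) ?_ (isUnit_ev' A 0 1) hm]
  · rw [l1_X]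
    simp only [ev, MvPolynomial.coe_eval₂Hom, MvPolynomial.eval₂_X]
    have e : (1 : Fin (1 + 1)).succAbove 0 = 0 := rfl
    rw [e]
    simp only [Matrix.cons_val_one, Matrix.cons_val_zero]
    rw [← LaurentPolynomial.T_add, neg_add_cancel, LaurentPolynomial.T_zero]
  · change Polynomial.toLaurent Polynomial.X * _ = _
    rw [Polynomial.toLaurent_X]
    simp only [ev, MvPolynomial.coe_eval₂Hom, MvPolynomial.eval₂_X]
    have e : (0 : Fin (1 + 1)).succAbove 0 = 1 := rfl
    rw [e]
    simp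

lemma isOpenImmersion_l0 : IsOpenImmersion (Spec.map (CommRingCat.ofHom (l0 A))) :=
  IsOpenImmersion.of_isLocalization (S := A[T;T⁻¹]) (Polynomial.X : Polynomial A)

lemma isOpenImmersion_l1 : IsOpenImmersion (Spec.map (CommRingCat.ofHom (l1 A))) := by
  have h : IsOpenImmersion (Spec.map (CommRingCat.ofHom (l1 A)) ≫ v A 1) := by
    rw [← ov]
    have := isOpenImmersion_l0 A
    infer_instance
  exact IsOpenImmersion.of_comp _ (v A 1)

lemma cover (x : CohB1.ProjSpace 1 A) : x ∈ Set.range (v A 0) ∨ x ∈ Set.range (v A 1) := by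
  obtain ⟨i, y, hy⟩ := exists_mem_chart 1 A x
  obtain ⟨z, rfl⟩ := (Spec.map (CommRingCat.ofHom (w A))).surjective y
  have h : ∀ i, chart 1 A i (Spec.map (CommRingCat.ofHom (w A)) z) = v A i z := fun i => rfl
  fin_cases i
  · left; exact ⟨z, hy⟩
  · right; exact ⟨z, hy⟩

/-- Morphisms from the projective line are determined on the charts. -/
theorem hom_ext {T : Scheme.{u}} {a b : CohB1.ProjSpace 1 A ⟶ T} (h0 : v A 0 ≫ a = v A 0 ≫ b)
    (h1 : v A 1 ≫ a = v A 1 ≫ b) : a = b := by
  let 𝒰 : (CohB1.ProjSpace 1 A).OpenCover :=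
    Scheme.Cover.mkOfCovers (Fin 2) (fun _ => Spec (CommRingCat.of (Polynomial A)))
      (fun i => v A i) (fun x => by
        rcases cover A x with ⟨y, hy⟩ | ⟨y, hy⟩
        · exact ⟨0, y, hy⟩
        · exact ⟨1, y, hy⟩) (fun i => isOpenImmersion_v A i)
  have h : ∀ i : Fin 2, v A i ≫ a = v A i ≫ b := by
    intro i
    fin_cases i
    · exact h0
    · exact h1
  exact 𝒰.hom_ext _ _ fun i => h i

lemma isUnit_awayMap_coord (x : MvPolynomial (Fin (1 + 1)) A)
    (hx : x = MvPolynomial.X 0 * MvPolynomial.X 1) :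
    IsUnit (awayMap (CohB1.polyGrading 1 A) (X_mem 1 A 1) hx (coord 1 A 0 1)) := by
  have hx' : x = MvPolynomial.X 1 * MvPolynomial.X 0 := hx.trans (mul_comm _ _)
  refine IsUnit.of_mul_eq_one (awayMap (CohB1.polyGrading 1 A) (X_mem 1 A 0) hx' (coord 1 A 1 0)) ?_
  apply val_injective
  rw [val_mul, val_one, val_awayMap, val_awayMap]
  have h0 := congrArg (Localization.awayLift (algebraMap _ (Localization.Away x)) (MvPolynomial.X 0)
    (isUnit_of_dvd_unit (map_dvd _ ⟨_, hx⟩) (IsLocalization.Away.algebraMap_isUnit x))) (val_coord_mul 1 A 0 1)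
  have h1 := congrArg (Localization.awayLift (algebraMap _ (Localization.Away x)) (MvPolynomial.X 1)
    (isUnit_of_dvd_unit (map_dvd _ ⟨_, hx'⟩) (IsLocalization.Away.algebraMap_isUnit x))) (val_coord_mul 1 A 1 0)
  have e0 : ∀ p, Localization.awayLift (algebraMap _ (Localization.Away x)) (MvPolynomial.X 0)
    (isUnit_of_dvd_unit (map_dvd _ ⟨_, hx⟩) (IsLocalization.Away.algebraMap_isUnit x)) (algebraMap _ _ p) =
      algebraMap _ (Localization.Away x) p := fun p => IsLocalization.Away.lift_eq _ _ _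
  have e1 : ∀ p, Localization.awayLift (algebraMap _ (Localization.Away x)) (MvPolynomial.X 1)
    (isUnit_of_dvd_unit (map_dvd _ ⟨_, hx'⟩) (IsLocalization.Away.algebraMap_isUnit x)) (algebraMap _ _ p) =
      algebraMap _ (Localization.Away x) p := fun p => IsLocalization.Away.lift_eq _ _ _
  rw [map_mul, e0, e0] at h0
  rw [map_mul, e1, e1] at h1
  have hu : IsUnit (algebraMap (MvPolynomial (Fin (1 + 1)) A) (Localization.Away x) (MvPolynomial.X 0 *
      MvPolynomial.X 1)) := by
    rw [← hx]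
    exact IsLocalization.Away.algebraMap_isUnit x
  refine hu.mul_right_cancel ?_
  rw [map_mul, one_mul]
  clear e0 e1
  generalize Localization.awayLift (algebraMap _ (Localization.Away x)) (MvPolynomial.X 1)
    (isUnit_of_dvd_unit (map_dvd _ ⟨_, hx'⟩) (IsLocalization.Away.algebraMap_isUnit x)) (coord 1 A 1 0).val = b1 at *
  generalize Localization.awayLift (algebraMap _ (Localization.Away x)) (MvPolynomial.X 0)
    (isUnit_of_dvd_unit (map_dvd _ ⟨_, hx⟩) (IsLocalization.Away.algebraMap_isUnit x)) (coord 1 A 0 1).val = b0 at *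
  generalize algebraMap (MvPolynomial (Fin (1 + 1)) A) (Localization.Away x) (MvPolynomial.X 0) = a0 at *
  generalize algebraMap (MvPolynomial (Fin (1 + 1)) A) (Localization.Away x) (MvPolynomial.X 1) = a1 at *
  linear_combination b1 * a1 * h0 + a1 * h1

lemma mem_range_v (i : Fin (1 + 1)) (y : CohB1.ProjSpace 1 A) :
    y ∈ Set.range (v A i) ↔ y ∈ Proj.basicOpen (CohB1.polyGrading 1 A) (MvPolynomial.X i) := by
  have hs : Function.Surjective (Spec.map (CommRingCat.ofHom (w A))) :=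
    (Spec.map (CommRingCat.ofHom (w A))).surjective
  have h := opensRange_chart 1 A i
  have h1 : y ∈ Set.range (v A i) ↔ y ∈ (chart 1 A i).opensRange := by
    constructor
    · rintro ⟨z, rfl⟩
      exact ⟨_, rfl⟩
    · rintro ⟨z, rfl⟩
      obtain ⟨t, rfl⟩ := hs z
      exact ⟨t, rfl⟩
  rw [h1, h]
  rfl

lemma mem_range_ov (y : CohB1.ProjSpace 1 A) (h0 : y ∈ Set.range (v A 0)) (h1 : y ∈ Set.range (v A 1)) :
    y ∈ Set.range (Spec.map (CommRingCat.ofHom (l0 A)) ≫ v A 0) := by
  have hb : y ∈ Proj.basicOpen (CohB1.polyGrading 1 A) (MvPolynomial.X 0 * MvPolynomial.X 1) := by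
    rw [Proj.basicOpen_mul]
    exact ⟨(mem_range_v A 0 y).1 h0, (mem_range_v A 1 y).1 h1⟩
  obtain ⟨z, rfl⟩ := h0
  have hr : Set.range (Spec.map (CommRingCat.ofHom (l0 A))) =
      {w : Spec (CommRingCat.of (Polynomial A)) | (Polynomial.X : Polynomial A) ∉ w.asIdeal} :=
    PrimeSpectrum.localization_away_comap_range A[T;T⁻¹] (Polynomial.X : Polynomial A)
  suffices hz : (Polynomial.X : Polynomial A) ∉ z.asIdeal by
    have h2 : z ∈ Set.range (Spec.map (CommRingCat.ofHom (l0 A))) := by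
      rw [hr]
      exact hz
    obtain ⟨t, rfl⟩ := h2
    exact ⟨t, Scheme.Hom.comp_apply _ _ _⟩
  intro hz
  let x : MvPolynomial (Fin (1 + 1)) A := MvPolynomial.X 0 * MvPolynomial.X 1
  have hm : x ∈ CohB1.polyGrading 1 A 2 := SetLike.mul_mem_graded (X_mem 1 A 0) (X_mem 1 A 1)
  rw [← Proj.opensRange_awayι (CohB1.polyGrading 1 A) x hm two_pos] at hb
  obtain ⟨q, hq⟩ := hb
  let aw : Spec (CommRingCat.of (Away (CohB1.polyGrading 1 A) (MvPolynomial.X 0))) ⟶ CohB1.ProjSpace 1 A :=
    Proj.awayι (CohB1.polyGrading 1 A) (MvPolynomial.X 0) (X_mem 1 A 0) Nat.one_pos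
  have hop' : IsOpenImmersion (Proj.awayι (CohB1.polyGrading 1 A) (MvPolynomial.X 0) (X_mem 1 A 0) Nat.one_pos) :=
    IsOpenImmersion.comp _ _
  have hop : IsOpenImmersion aw := hop'
  let ax : Spec (CommRingCat.of (Away (CohB1.polyGrading 1 A) x)) ⟶ CohB1.ProjSpace 1 A :=
    Proj.awayι (CohB1.polyGrading 1 A) x hm two_pos
  have h2 : Spec.map (CommRingCat.ofHom (awayMap (CohB1.polyGrading 1 A) (X_mem 1 A 1) (rfl : x = _))) ≫ aw = ax :=
    Proj.SpecMap_awayMap_awayι (CohB1.polyGrading 1 A) (X_mem 1 A 0) Nat.one_pos (X_mem 1 A 1) rfl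
  have h3 : ax q = aw (Spec.map (CommRingCat.ofHom (chartEquiv 1 A 0).symm.toRingHom)
      (Spec.map (CommRingCat.ofHom (w A)) z)) := hq
  rw [← h2, Scheme.Hom.comp_apply] at h3
  have h4 := (Scheme.Hom.isOpenEmbedding aw).injective h3
  have h5 : coord 1 A 0 1 ∈ (Spec.map (CommRingCat.ofHom (awayMap (CohB1.polyGrading 1 A) (X_mem 1 A 1)
      (rfl : x = _))) q).asIdeal := by
    rw [h4]
    change w A ((chartEquiv 1 A 0).symm (coord 1 A 0 1)) ∈ z.asIdeal
    have h6 : (chartEquiv 1 A 0).symm (coord 1 A 0 1) = MvPolynomial.X 0 := by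
      rw [RingEquiv.symm_apply_eq, chartEquiv_X]
      rfl
    rw [h6]
    simpa [w] using hz
  have h7 : awayMap (CohB1.polyGrading 1 A) (X_mem 1 A 1) (rfl : x = _) (coord 1 A 0 1) ∈ q.asIdeal := h5
  exact q.isPrime.ne_top (Ideal.eq_top_of_isUnit_mem _ h7 (isUnit_awayMap_coord A x rfl))

/-- The overlap of the two charts. -/
theorem isPullback : IsPullback (Spec.map (CommRingCat.ofHom (l0 A))) (Spec.map (CommRingCat.ofHom (l1 A)))
    (v A 0) (v A 1) := by
  have i0 := isOpenImmersion_l0 A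
  have i1 := isOpenImmersion_l1 A
  refine IsOpenImmersion.isPullback _ _ _ _ (ov A).symm ?_
  ext z
  refine Iff.symm ?_
  change z ∈ Set.range (Spec.map (CommRingCat.ofHom (l1 A))) ↔ v A 1 z ∈ Set.range (v A 0)
  constructor
  · rintro ⟨t, rfl⟩
    refine ⟨Spec.map (CommRingCat.ofHom (l0 A)) t, ?_⟩
    rw [← Scheme.Hom.comp_apply, ← Scheme.Hom.comp_apply, ov]
  · intro h
    have h1 := mem_range_ov A _ h ⟨z, rfl⟩
    rw [ov] at h1
    obtain ⟨t, ht⟩ := h1
    rw [Scheme.Hom.comp_apply] at ht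
    exact ⟨t, (Scheme.Hom.isOpenEmbedding (v A 1)).injective ht⟩

end K681.P1Ov
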