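import Groth.Agent.Sga7.H736.RelGlue
import Mathlib.AlgebraicGeometry.Morphisms.Finite

/-!
# Relative gluing with the universal property; the case of two charts
-/

set_option autoImplicit false
universe u

open CategoryTheory CategoryTheory.Limits AlgebraicGeometry
open Groth.Agent.Sga7.H736.RelGlue

namespace K681.Glue3

variable {S : Scheme.{u}}

theorem exists_of_data {𝒱 : S.OpenCover} [Category 𝒱.I₀] [𝒱.LocallyDirected] [Small.{u} 𝒱.I₀]
    [Quiver.IsThin 𝒱.I₀] (d : 𝒱.RelativeGluingData) :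
    ∃ (G : Scheme.{u}) (g : G ⟶ S) (ι : ∀ j, d.functor.obj j ⟶ G),
      (∀ j, IsPullback (ι j) (d.natTrans.app j) g (𝒱.f j)) ∧
      (∀ {i j : 𝒱.I₀} (h : i ⟶ j), d.functor.map h ≫ ι j = ι i) ∧
      (∀ (T : Scheme.{u}) (t : ∀ j, d.functor.obj j ⟶ T), (∀ {i j : 𝒱.I₀} (h : i ⟶ j), d.functor.map h ≫ t j = t i) →
        ∃ a : G ⟶ T, ∀ j, ι j ≫ a = t j) ∧
      (∀ (T : Scheme.{u}) (a b : G ⟶ T), (∀ j, ι j ≫ a = ι j ≫ b) → a = b) :=
  ⟨d.glued, d.toBase, fun j => colimit.ι d.functor j,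
    fun j => (d.isPullback_natTrans_ι_toBase j).flip, fun h => colimit.w d.functor h,
    fun T t ht => ⟨colimit.desc d.functor ⟨T, ⟨t, fun i j h => by rw [ht h]; exact (Category.comp_id _).symm⟩⟩,
      fun j => colimit.ι_desc _ _⟩, fun T a b h => colimit.hom_ext h⟩

variable {J : Type u} [Preorder J]

/-- **Relative gluing**, with the universal property. -/
theorem exists_glue (𝒰 : Dir S J) (X : J → Scheme.{u}) (x : ∀ j, X j ⟶ 𝒰.U j)
    (m : ∀ {i j : J}, i ≤ j → (X i ⟶ X j)) (hm : ∀ {i j : J} (h : i ≤ j), IsPullback (m h) (x i) (x j) (𝒰.tr h))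
    (m_refl : ∀ i, m (le_refl i) = 𝟙 (X i))
    (m_trans : ∀ {i j k : J} (h : i ≤ j) (h' : j ≤ k), m (h.trans h') = m h ≫ m h') :
    ∃ (G : Scheme.{u}) (g : G ⟶ S) (ι : ∀ j, X j ⟶ G),
      (∀ j, IsPullback (ι j) (x j) g (𝒰.f j)) ∧ (∀ {i j : J} (h : i ≤ j), m h ≫ ι j = ι i) ∧
      (∀ (T : Scheme.{u}) (t : ∀ j, X j ⟶ T), (∀ {i j : J} (h : i ≤ j), m h ≫ t j = t i) →
        ∃ a : G ⟶ T, ∀ j, ι j ≫ a = t j) ∧
      (∀ (T : Scheme.{u}) (a b : G ⟶ T), (∀ j, ι j ≫ a = ι j ≫ b) → a = b) := by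
  have i1 : Small.{u} 𝒰.cover.I₀ := inferInstanceAs (Small.{u} J)
  have i2 : Quiver.IsThin 𝒰.cover.I₀ := inferInstanceAs (Quiver.IsThin J)
  obtain ⟨G, g, ι, h1, h2, h3, h4⟩ := exists_of_data (𝒱 := 𝒰.cover)
    { functor :=
        { obj := X
          map := fun {i j} a => m (leOfHom (a : (i : J) ⟶ (j : J)))
          map_id := fun i => m_refl i
          map_comp := fun {i j k} a b => m_trans (leOfHom (a : (i : J) ⟶ (j : J))) (leOfHom (b : (j : J) ⟶ (k : J))) }
      natTrans := 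
        { app := fun i => x i
          naturality := fun i j a => (hm (leOfHom (a : (i : J) ⟶ (j : J)))).w }
      equifibered := fun i j a => (hm (leOfHom (a : (i : J) ⟶ (j : J)))) }
  exact ⟨G, g, ι, h1, fun {i j} h => h2 (homOfLE h : (i : J) ⟶ (j : J)),
    fun T t ht => h3 T t fun {i j} h => ht (leOfHom (h : (i : J) ⟶ (j : J))), h4⟩

/-- Two charts and their overlap. -/
inductive Idx : Type u
  | o
  | a
  | b

/-- The overlap is contained in the charts. -/
def Idx.le : Idx.{u} → Idx.{u} → Prop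
  | .o, _ => True
  | .a, .a => True
  | .b, .b => True
  | _, _ => False

instance : Preorder Idx.{u} where
  le := Idx.le
  le_refl i := by cases i <;> trivial
  le_trans i j k h h' := by cases i <;> cases j <;> cases k <;> trivial

lemma Idx.oa : (Idx.o : Idx.{u}) ≤ Idx.a := trivial

lemma Idx.ob : (Idx.o : Idx.{u}) ≤ Idx.b := trivial

section Two

variable {Ua Ub Uo : Scheme.{u}} (va : Ua ⟶ S) (vb : Ub ⟶ S) (la : Uo ⟶ Ua) (lb : Uo ⟶ Ub)

/-- The directed covering by two charts. -/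
noncomputable def dir [IsOpenImmersion va] [IsOpenImmersion vb] (H : IsPullback la lb va vb)
    (hc : ∀ s : S, s ∈ Set.range va ∨ s ∈ Set.range vb) : Dir S Idx.{u} where
  U j := match j with | .o => Uo | .a => Ua | .b => Ub
  f j := match j with | .o => la ≫ va | .a => va | .b => vb
  op j := by
    have i1 : IsOpenImmersion la := MorphismProperty.of_isPullback H.flip inferInstance
    cases j
    · exact (inferInstance : IsOpenImmersion (la ≫ va))
    · exact (inferInstance : IsOpenImmersion va)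
    · exact (inferInstance : IsOpenImmersion vb)
  mono {i j} h := by
    cases i <;> cases j
    · exact subset_rfl
    · rintro _ ⟨x, rfl⟩
      exact ⟨la x, (Scheme.Hom.comp_apply _ _ _).symm⟩
    · rintro _ ⟨x, rfl⟩
      refine ⟨lb x, ?_⟩
      change vb (lb x) = (la ≫ va) x
      rw [H.w]
      exact (Scheme.Hom.comp_apply _ _ _).symm
    · exact h.elim
    · exact subset_rfl
    · exact h.elim
    · exact h.elim
    · exact h.elim
    · exact subset_rfl
  cov s := by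
    rcases hc s with h | h
    · exact ⟨.a, h⟩
    · exact ⟨.b, h⟩
  dir i j s hi hj := by
    have key : s ∈ Set.range va → s ∈ Set.range vb → s ∈ Set.range (la ≫ va) := by
      rintro ⟨x, hx⟩ ⟨y, hy⟩
      obtain ⟨z, hz, -⟩ := Scheme.Pullback.exists_preimage_pullback x y (hx.trans hy.symm)
      refine ⟨H.isoPullback.inv z, ?_⟩
      rw [← hx, ← hz, ← Scheme.Hom.comp_apply, ← Category.assoc, H.isoPullback_inv_fst]
      exact Scheme.Hom.comp_apply _ _ _
    cases i <;> cases j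
    · exact ⟨.o, trivial, trivial, hi⟩
    · exact ⟨.o, trivial, trivial, hi⟩
    · exact ⟨.o, trivial, trivial, hi⟩
    · exact ⟨.o, trivial, trivial, hj⟩
    · exact ⟨.a, trivial, trivial, hi⟩
    · exact ⟨.o, trivial, trivial, key hi hj⟩
    · exact ⟨.o, trivial, trivial, hj⟩
    · exact ⟨.o, trivial, trivial, key hj hi⟩
    · exact ⟨.b, trivial, trivial, hi⟩

/-- Gluing of two schemes over two charts. -/
theorem exists_two [IsOpenImmersion va] [IsOpenImmersion vb] (H : IsPullback la lb va vb)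
    (hc : ∀ s : S, s ∈ Set.range va ∨ s ∈ Set.range vb) {Xa Xb Xo : Scheme.{u}} (xa : Xa ⟶ Ua) (xb : Xb ⟶ Ub)
    (xo : Xo ⟶ Uo) (ma : Xo ⟶ Xa) (mb : Xo ⟶ Xb) (Ha : IsPullback ma xo xa la) (Hb : IsPullback mb xo xb lb) :
    ∃ (G : Scheme.{u}) (g : G ⟶ S) (ιa : Xa ⟶ G) (ιb : Xb ⟶ G), IsPullback ιa xa g va ∧ IsPullback ιb xb g vb ∧
      ma ≫ ιa = mb ≫ ιb ∧
      (∀ (T : Scheme.{u}) (ta : Xa ⟶ T) (tb : Xb ⟶ T), ma ≫ ta = mb ≫ tb → ∃ a : G ⟶ T, ιa ≫ a = ta ∧ ιb ≫ a = tb) ∧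
      (∀ (T : Scheme.{u}) (a b : G ⟶ T), ιa ≫ a = ιa ≫ b → ιb ≫ a = ιb ≫ b → a = b) := by
  let 𝒰 := dir va vb la lb H hc
  let X : Idx.{u} → Scheme.{u} := fun j => match j with | .o => Xo | .a => Xa | .b => Xb
  let x : ∀ j, X j ⟶ 𝒰.U j := fun j => match j with | .o => xo | .a => xa | .b => xb
  let m : ∀ {i j : Idx.{u}}, i ≤ j → (X i ⟶ X j) := fun {i j} h => match i, j, h with
    | .o, .o, _ => 𝟙 _
    | .o, .a, _ => ma
    | .o, .b, _ => mb
    | .a, .a, _ => 𝟙 _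
    | .b, .b, _ => 𝟙 _
  have htr : ∀ i, 𝒰.tr (le_refl i) = 𝟙 _ := fun i => 𝒰.tr_refl i
  let la' : 𝒰.U .o ⟶ 𝒰.U .a := la
  let lb' : 𝒰.U .o ⟶ 𝒰.U .b := lb
  have ha : 𝒰.tr Idx.oa = la' := (cancel_mono (𝒰.f .a)).mp (𝒰.tr_f Idx.oa)
  have hb : 𝒰.tr Idx.ob = lb' := (cancel_mono (𝒰.f .b)).mp ((𝒰.tr_f Idx.ob).trans H.w)
  have hm : ∀ {i j : Idx.{u}} (h : i ≤ j), IsPullback (m h) (x i) (x j) (𝒰.tr h) := by
    intro i j h
    have hid : ∀ i, IsPullback (𝟙 (X i)) (x i) (x i) (𝒰.tr (le_refl i)) := fun i => by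
      rw [htr i]
      exact IsPullback.of_horiz_isIso ⟨by simp⟩
    cases i <;> cases j
    · exact hid .o
    · have e : 𝒰.tr h = la' := ha
      rw [e]
      exact Ha
    · have e : 𝒰.tr h = lb' := hb
      rw [e]
      exact Hb
    · exact h.elim
    · exact hid .a
    · exact h.elim
    · exact h.elim
    · exact h.elim
    · exact hid .b
  obtain ⟨G, g, ι, h1, h2, h3, h4⟩ := exists_glue 𝒰 X x m hm (fun i => by cases i <;> rfl) (fun {i j k} h h' => by
    cases i <;> cases j <;> cases k <;> first | exact h.elim | exact h'.elim | simp [m])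
  refine ⟨G, g, ι .a, ι .b, h1 .a, h1 .b, ?_, fun T ta tb h => ?_, fun T a b ha hb => ?_⟩
  · exact (h2 Idx.oa).trans (h2 Idx.ob).symm
  · obtain ⟨a, ha⟩ := h3 T (fun j => match j with | .o => ma ≫ ta | .a => ta | .b => tb) (fun {i j} hij => by
      cases i <;> cases j <;> first | exact hij.elim | simp [m, h])
    exact ⟨a, ha .a, ha .b⟩
  · refine h4 T a b fun j => ?_
    cases j
    · rw [← h2 Idx.oa, Category.assoc, Category.assoc, ha]
    · exact ha
    · exact hb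

end Two

end K681.Glue3
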