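import Mathlib.Algebra.Category.Ring.Constructions
import Mathlib.RingTheory.AdjoinRoot

/-!
# The quadratic algebra `R[y]/(y² - f)` and its base change

`isPushout`: for `φ : R → S` and a unit `u` of `S` with `φ f = u² g`, the square of `R → S`, `R[y]/(y² - f) → S[y]/(y² - g)`,
`y ↦ u y`, is cocartesian.
-/

set_option autoImplicit false
universe u

open CategoryTheory CategoryTheory.Limits Polynomial

namespace K681.QuadRing

variable {R S T : Type u} [CommRing R] [CommRing S] [CommRing T]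

/-- `R[y]/(y² - f)`. -/
abbrev Q (f : R) : Type u := AdjoinRoot (X ^ 2 - C f : R[X])

lemma root_sq (f : R) : (AdjoinRoot.root (X ^ 2 - C f : R[X])) ^ 2 = AdjoinRoot.of (X ^ 2 - C f : R[X]) f := by
  have h := AdjoinRoot.eval₂_root (X ^ 2 - C f : R[X])
  simp only [eval₂_sub, eval₂_pow, eval₂_X, eval₂_C] at h
  exact sub_eq_zero.mp h

/-- Ring homomorphisms out of `R[y]/(y² - f)`. -/
noncomputable def desc {f : R} (a : R →+* T) (t : T) (h : t ^ 2 = a f) : Q f →+* T :=
  AdjoinRoot.lift a t (by simp only [eval₂_sub, eval₂_pow, eval₂_X, eval₂_C, h, sub_self])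

@[simp] lemma desc_of {f : R} (a : R →+* T) (t : T) (h : t ^ 2 = a f) (r : R) : desc a t h (AdjoinRoot.of _ r) = a r :=
  AdjoinRoot.lift_of _

@[simp] lemma desc_root {f : R} (a : R →+* T) (t : T) (h : t ^ 2 = a f) : desc a t h (AdjoinRoot.root _) = t :=
  AdjoinRoot.lift_root _

lemma hom_ext {f : R} {a b : Q f →+* T} (h : ∀ r, a (AdjoinRoot.of _ r) = b (AdjoinRoot.of _ r))
    (h' : a (AdjoinRoot.root _) = b (AdjoinRoot.root _)) : a = b := by
  refine AdjoinRoot.ringHom_ext (RingHom.ext h) h'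

/-- `y ↦ u y`. -/
noncomputable def map (φ : R →+* S) (u : S) {f : R} {g : S} (h : φ f = u ^ 2 * g) : Q f →+* Q g :=
  desc ((AdjoinRoot.of _).comp φ) (AdjoinRoot.of _ u * AdjoinRoot.root _) (by
    rw [mul_pow, root_sq, ← map_pow, ← map_mul, RingHom.comp_apply, h])

lemma map_of (φ : R →+* S) (u : S) {f : R} {g : S} (h : φ f = u ^ 2 * g) (r : R) :
    map φ u h (AdjoinRoot.of _ r) = AdjoinRoot.of _ (φ r) := desc_of _ _ _ _

lemma map_root (φ : R →+* S) (u : S) {f : R} {g : S} (h : φ f = u ^ 2 * g) :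
    map φ u h (AdjoinRoot.root _) = AdjoinRoot.of _ u * AdjoinRoot.root _ := desc_root _ _ _

/-- The base change of a quadratic algebra. -/
theorem isPushout (φ : R →+* S) (u v : S) (hv : u * v = 1) {f : R} {g : S} (h : φ f = u ^ 2 * g) :
    IsPushout (CommRingCat.ofHom φ) (CommRingCat.ofHom (AdjoinRoot.of (X ^ 2 - C f : R[X])))
      (CommRingCat.ofHom (AdjoinRoot.of (X ^ 2 - C g : S[X]))) (CommRingCat.ofHom (map φ u h)) := by
  have hs : ∀ s : PushoutCocone (CommRingCat.ofHom φ) (CommRingCat.ofHom (AdjoinRoot.of (X ^ 2 - C f : R[X]))),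
      (s.inl.hom v * s.inr.hom (AdjoinRoot.root (X ^ 2 - C f : R[X]))) ^ 2 = s.inl.hom g := by
    intro s
    have hc : ∀ r, s.inl.hom (φ r) = s.inr.hom (AdjoinRoot.of _ r) := fun r => congr($(s.condition).hom r)
    rw [mul_pow, ← map_pow s.inr.hom, root_sq, ← hc, h, ← map_pow, ← map_mul]
    congr 1
    linear_combination (u * v + 1) * g * hv
  refine ⟨⟨?_⟩, ⟨PushoutCocone.IsColimit.mk _ (fun s => CommRingCat.ofHom (desc s.inl.hom (s.inl.hom v *
      s.inr.hom (AdjoinRoot.root _)) (hs s))) (fun s => ?_) (fun s => ?_) (fun s m h1 h2 => ?_)⟩⟩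
  · ext r
    exact (map_of φ u h r).symm
  · ext r
    exact desc_of (f := g) _ _ (hs s) r
  · apply CommRingCat.hom_ext
    apply hom_ext
    · intro r
      have hc : s.inl.hom (φ r) = s.inr.hom (AdjoinRoot.of _ r) := congr($(s.condition).hom r)
      change desc _ _ (hs s) (map φ u h (AdjoinRoot.of _ r)) = _
      rw [map_of, desc_of, hc]
    · change desc _ _ (hs s) (map φ u h (AdjoinRoot.root _)) = _
      rw [map_root, map_mul, desc_of, desc_root, ← mul_assoc, ← map_mul, hv, map_one, one_mul]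
  · apply CommRingCat.hom_ext
    apply hom_ext
    · intro r
      exact congr($(h1).hom r).trans (desc_of (f := g) _ _ (hs s) r).symm
    · have e1 : m.hom (map φ u h (AdjoinRoot.root _)) = s.inr.hom (AdjoinRoot.root _) :=
        congr($(h2).hom (AdjoinRoot.root _))
      have e2 : m.hom (AdjoinRoot.of _ v) = s.inl.hom v := congr($(h1).hom v)
      have e3 : (AdjoinRoot.root (X ^ 2 - C g : S[X])) = AdjoinRoot.of _ v * map φ u h (AdjoinRoot.root _) := by
        rw [map_root, ← mul_assoc, ← map_mul, mul_comm v u, hv, map_one, one_mul]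
      change m.hom _ = desc _ _ (hs s) _
      rw [desc_root, e3, map_mul, e1, e2]

lemma map_neg_comm (φ : R →+* S) (u : S) {f : R} {g : S} (h : φ f = u ^ 2 * g) (n : Q f →+* Q f) (n' : Q g →+* Q g)
    (hn : ∀ r, n (AdjoinRoot.of _ r) = AdjoinRoot.of _ r) (hn' : ∀ r, n' (AdjoinRoot.of _ r) = AdjoinRoot.of _ r)
    (hr : n (AdjoinRoot.root _) = -AdjoinRoot.root _) (hr' : n' (AdjoinRoot.root _) = -AdjoinRoot.root _) :
    (map φ u h).comp n = n'.comp (map φ u h) := by
  apply hom_ext
  · intro r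
    rw [RingHom.comp_apply, RingHom.comp_apply, hn, map_of, hn']
  · rw [RingHom.comp_apply, RingHom.comp_apply, hr, map_neg, map_root, map_mul, hn', hr', mul_neg]

end K681.QuadRing
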