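import Groth.Agent.CurvSt.K760.Iface
import Groth.Agent.CurvSt.K681.QuadRing
import Groth.Agent.CurvSt.K681.P1Ov
import Groth.Agent.CurvSt.K681.Glue3

/-!
# The double cover `y² = f(x)` of the projective line
-/

set_option autoImplicit false
universe u

open CategoryTheory CategoryTheory.Limits AlgebraicGeometry Polynomial
open scoped LaurentPolynomial
open K681.QuadRing K681.P1Ov

namespace K681.Hurw

variable {A : Type u} [CommRing A]

/-- The open cover of the projective line by the charts. -/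
noncomputable def chartCover (A : Type u) [CommRing A] : (CohB1.ProjSpace 1 A).OpenCover :=
  Scheme.Cover.mkOfCovers (Fin 2) (fun _ => Spec (CommRingCat.of (Polynomial A)))
    (fun i => v A i) (fun x => by
      rcases cover A x with ⟨y, hy⟩ | ⟨y, hy⟩
      · exact ⟨0, y, hy⟩
      · exact ⟨1, y, hy⟩) (fun i => isOpenImmersion_v A i)

/-- A property local at the target can be checked on the two charts. -/
theorem of_charts (P : MorphismProperty Scheme.{u}) [IsZariskiLocalAtTarget P] {G : Scheme.{u}}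
    (g : G ⟶ CohB1.ProjSpace 1 A) {Xa Xb : Scheme.{u}} {ιa : Xa ⟶ G} {ιb : Xb ⟶ G}
    {xa : Xa ⟶ Spec (CommRingCat.of A[X])} {xb : Xb ⟶ Spec (CommRingCat.of A[X])}
    (ha : IsPullback ιa xa g (v A 0)) (hb : IsPullback ιb xb g (v A 1)) (pa : P xa) (pb : P xb) : P g := by
  rw [IsZariskiLocalAtTarget.iff_of_openCover (P := P) (chartCover A)]
  have h : ∀ (i : Fin 2), P (pullback.snd g (v A i)) := by
    intro i
    fin_cases i
    · have e : pullback.snd g (v A 0) = ha.isoPullback.inv ≫ xa := (ha.isoPullback_inv_snd).symm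
      change P (pullback.snd g (v A 0))
      rw [e, P.cancel_left_of_respectsIso]
      exact pa
    · have e : pullback.snd g (v A 1) = hb.isoPullback.inv ≫ xb := (hb.isoPullback_inv_snd).symm
      change P (pullback.snd g (v A 1))
      rw [e, P.cancel_left_of_respectsIso]
      exact pb
  exact fun i => h i

set_option backward.isDefEq.respectTransparency.types false in
lemma isLocal_isFinite : IsZariskiLocalAtTarget (@IsFinite : MorphismProperty Scheme.{u}) := inferInstance

lemma isFinite_of (f : A[X]) : IsFinite (Spec.map (CommRingCat.ofHom (AdjoinRoot.of (X ^ 2 - C f : A[X][X])))) := by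
  rw [IsFinite.SpecMap_iff]
  have h : (X ^ 2 - C f : A[X][X]).Monic := monic_X_pow_sub_C f two_ne_zero
  have h1 : Module.Finite A[X] (AdjoinRoot (X ^ 2 - C f : A[X][X])) := h.finite_adjoinRoot
  exact RingHom.finite_algebraMap.mpr h1

lemma neg_of (f : A[X]) (r : A[X]) : K760.Hurw.neg f (AdjoinRoot.of _ r) = AdjoinRoot.of _ r := AdjoinRoot.lift_of _

lemma neg_root (f : A[X]) : K760.Hurw.neg f (AdjoinRoot.root _) = -AdjoinRoot.root _ := AdjoinRoot.lift_root _

/-- The involution `y ↦ -y` over any ring. -/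
noncomputable def ngh {R : Type u} [CommRing R] (f : R) : Q f →+* Q f :=
  desc (AdjoinRoot.of _) (-AdjoinRoot.root _) (by rw [neg_sq, root_sq])

lemma ngh_of {R : Type u} [CommRing R] (f : R) (r : R) : ngh f (AdjoinRoot.of _ r) = AdjoinRoot.of _ r := desc_of _ _ _ _

lemma ngh_root {R : Type u} [CommRing R] (f : R) : ngh f (AdjoinRoot.root _) = -AdjoinRoot.root _ := desc_root _ _ _

lemma neg_neg (f : A[X]) : (K760.Hurw.neg f).comp (K760.Hurw.neg f) = RingHom.id _ := by
  apply QuadRing.hom_ext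
  · intro r
    rw [RingHom.comp_apply, neg_of, neg_of]
    rfl
  · rw [RingHom.comp_apply, neg_root, map_neg, neg_root, _root_.neg_neg]
    rfl

lemma l1_reverse (f : A[X]) (m : ℕ) (h : f.natDegree = 2 * m) :
    l1 A f.reverse = (LaurentPolynomial.T (-m : ℤ)) ^ 2 * Polynomial.toLaurent f := by
  change LaurentPolynomial.invert (Polynomial.toLaurent f.reverse) = _
  have h2 : LaurentPolynomial.invert (LaurentPolynomial.invert (Polynomial.toLaurent f)) = Polynomial.toLaurent f :=
    LaurentPolynomial.involutive_invert _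
  rw [LaurentPolynomial.toLaurent_reverse, map_mul, LaurentPolynomial.invert_T, h, h2, mul_comm, sq,
    ← LaurentPolynomial.T_add]
  congr 2
  push_cast
  ring

/-- (DBL) existence of the double cover `y² = f(x)` of the projective line. -/
theorem double_main : K760.Hurw.DoubleStmt.{u} := by
  intro A _ f m hf hm
  have hu : (LaurentPolynomial.T (-m : ℤ) : A[T;T⁻¹]) * LaurentPolynomial.T m = 1 := by
    rw [← LaurentPolynomial.T_add, neg_add_cancel, LaurentPolynomial.T_zero]
  have h0 : l0 A f = (1 : A[T;T⁻¹]) ^ 2 * Polynomial.toLaurent f := by rw [one_pow, one_mul]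
  have h1 := l1_reverse f m hm
  have Ha := (isPullback_SpecMap_of_isPushout _ _ _ _ (QuadRing.isPushout (l0 A) 1 1 (one_mul 1) h0)).flip
  have Hb := (isPullback_SpecMap_of_isPushout _ _ _ _ (QuadRing.isPushout (l1 A) _ _ hu h1)).flip
  obtain ⟨P, π, ja, jb, ha, hb, hab, hex, hext⟩ := K681.Glue3.exists_two (v A 0) (v A 1) _ _ (isPullback A) (cover A)
    _ _ _ _ _ Ha Hb
  have c0 : (map (l0 A) 1 h0).comp (K760.Hurw.neg f) = (ngh (Polynomial.toLaurent f)).comp (map (l0 A) 1 h0) :=
    map_neg_comm _ _ h0 _ _ (neg_of f) (ngh_of _) (neg_root f) (ngh_root _)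
  have c1 : (map (l1 A) _ h1).comp (K760.Hurw.neg f.reverse) =
      (ngh (Polynomial.toLaurent f)).comp (map (l1 A) _ h1) :=
    map_neg_comm _ _ h1 _ _ (neg_of f.reverse) (ngh_of _) (neg_root f.reverse) (ngh_root _)
  have d0 : Spec.map (CommRingCat.ofHom (map (l0 A) 1 h0)) ≫ Spec.map (CommRingCat.ofHom (K760.Hurw.neg f)) =
      Spec.map (CommRingCat.ofHom (ngh (Polynomial.toLaurent f))) ≫ Spec.map (CommRingCat.ofHom (map (l0 A) 1 h0)) := by
    rw [← Spec.map_comp, ← Spec.map_comp, ← CommRingCat.ofHom_comp, ← CommRingCat.ofHom_comp, c0]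
  have d1 : Spec.map (CommRingCat.ofHom (map (l1 A) _ h1)) ≫ Spec.map (CommRingCat.ofHom (K760.Hurw.neg f.reverse)) =
      Spec.map (CommRingCat.ofHom (ngh (Polynomial.toLaurent f))) ≫ Spec.map (CommRingCat.ofHom (map (l1 A) _ h1)) := by
    rw [← Spec.map_comp, ← Spec.map_comp, ← CommRingCat.ofHom_comp, ← CommRingCat.ofHom_comp, c1]
  obtain ⟨σ, s0, s1⟩ := hex P (Spec.map (CommRingCat.ofHom (K760.Hurw.neg f)) ≫ ja)
    (Spec.map (CommRingCat.ofHom (K760.Hurw.neg f.reverse)) ≫ jb) (by
      rw [← Category.assoc, ← Category.assoc, d0, d1, Category.assoc, Category.assoc, hab])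
  have n0 : ∀ g : A[X], Spec.map (CommRingCat.ofHom (K760.Hurw.neg g)) ≫ Spec.map (CommRingCat.ofHom (K760.Hurw.neg g)) =
      𝟙 _ := by
    intro g
    rw [← Spec.map_comp, ← CommRingCat.ofHom_comp, neg_neg]
    exact Spec.map_id _
  have o0 : ∀ g : A[X], Spec.map (CommRingCat.ofHom (K760.Hurw.neg g)) ≫
      Spec.map (CommRingCat.ofHom (AdjoinRoot.of (X ^ 2 - C g : A[X][X]))) =
        Spec.map (CommRingCat.ofHom (AdjoinRoot.of (X ^ 2 - C g : A[X][X]))) := by
    intro g
    rw [← Spec.map_comp, ← CommRingCat.ofHom_comp]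
    congr 2
    exact RingHom.ext fun r => neg_of g r
  refine ⟨P, π, σ, ⟨?_, ?_, ?_, ⟨ja, ha, s0⟩, ⟨jb, hb, s1⟩⟩⟩
  · have hloc := isLocal_isFinite.{u}
    exact of_charts @IsFinite π ha hb (isFinite_of f) (isFinite_of f.reverse)
  · refine hext P _ _ ?_ ?_
    · rw [← Category.assoc, s0, Category.assoc, s0, ← Category.assoc, n0, Category.id_comp, Category.comp_id]
    · rw [← Category.assoc, s1, Category.assoc, s1, ← Category.assoc, n0, Category.id_comp, Category.comp_id]
  · refine hext _ _ _ ?_ ?_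
    · rw [← Category.assoc, s0, Category.assoc, ha.w, ← Category.assoc, o0]
    · rw [← Category.assoc, s1, Category.assoc, hb.w, ← Category.assoc, o0]

end K681.Hurw
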