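import Groth.Agent.CurvSt.K681.Double

/-!
# Base change of the double cover `y² = f(x)` of the projective line
-/

set_option autoImplicit false
universe u

open CategoryTheory CategoryTheory.Limits AlgebraicGeometry Polynomial
open K681.QuadRing K681.P1Ov

namespace K681.Hurw

theorem bc_chart {A A' : Type u} [CommRing A] [CommRing A'] (φ : A →+* A') {P P' : Scheme.{u}} {j : P' ⟶ P}
    {π : P ⟶ CohB1.ProjSpace 1 A} {π' : P' ⟶ CohB1.ProjSpace 1 A'} {n : CohB1.ProjSpace 1 A' ⟶ CohB1.ProjSpace 1 A}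
    (H : IsPullback j π' π n) {σ : P ⟶ P} {σ' : P' ⟶ P'} (hσ : σ' ≫ j = j ≫ σ) (hσ' : σ' ≫ π' = π')
    {v : Spec (CommRingCat.of A[X]) ⟶ CohB1.ProjSpace 1 A} {v' : Spec (CommRingCat.of A'[X]) ⟶ CohB1.ProjSpace 1 A'}
    (hv : v' ≫ n = Spec.map (CommRingCat.ofHom (Polynomial.mapRingHom φ)) ≫ v) (f : A[X])
    (c : ∃ j : Spec (CommRingCat.of (AdjoinRoot (X ^ 2 - C f : A[X][X]))) ⟶ P,
      IsPullback j (Spec.map (CommRingCat.ofHom (AdjoinRoot.of (X ^ 2 - C f : A[X][X])))) π v ∧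
        j ≫ σ = Spec.map (CommRingCat.ofHom (K760.Hurw.neg f)) ≫ j) :
    ∃ j : Spec (CommRingCat.of (AdjoinRoot (X ^ 2 - C (f.map φ) : A'[X][X]))) ⟶ P',
      IsPullback j (Spec.map (CommRingCat.ofHom (AdjoinRoot.of (X ^ 2 - C (f.map φ) : A'[X][X])))) π' v' ∧
        j ≫ σ' = Spec.map (CommRingCat.ofHom (K760.Hurw.neg (f.map φ))) ≫ j := by
  obtain ⟨i, hi, hiσ⟩ := c
  have h1 : (Polynomial.mapRingHom φ) f = (1 : A'[X]) ^ 2 * f.map φ := by rw [one_pow, one_mul]; rfl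
  have S1 := (isPullback_SpecMap_of_isPushout _ _ _ _
    (QuadRing.isPushout (Polynomial.mapRingHom φ) 1 1 (one_mul 1) h1)).flip.paste_horiz hi
  rw [← hv] at S1
  let i' := H.lift _ (Spec.map (CommRingCat.ofHom (AdjoinRoot.of (X ^ 2 - C (f.map φ) : A'[X][X]))) ≫ v')
    (S1.w.trans (Category.assoc _ _ _).symm)
  have hij : i' ≫ j = _ := H.lift_fst _ _ _
  have hiπ : i' ≫ π' = _ := H.lift_snd _ _ _
  rw [← hij] at S1
  refine ⟨i', IsPullback.of_right S1 hiπ H, ?_⟩
  have c0 := map_neg_comm (Polynomial.mapRingHom φ) 1 h1 _ _ (neg_of f) (neg_of (f.map φ)) (neg_root f)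
    (neg_root (f.map φ))
  have d0 : Spec.map (CommRingCat.ofHom (map (Polynomial.mapRingHom φ) 1 h1)) ≫
      Spec.map (CommRingCat.ofHom (K760.Hurw.neg f)) = Spec.map (CommRingCat.ofHom (K760.Hurw.neg (f.map φ))) ≫
        Spec.map (CommRingCat.ofHom (map (Polynomial.mapRingHom φ) 1 h1)) := by
    rw [← Spec.map_comp, ← Spec.map_comp, ← CommRingCat.ofHom_comp, ← CommRingCat.ofHom_comp, c0]
  have o0 : Spec.map (CommRingCat.ofHom (K760.Hurw.neg (f.map φ))) ≫
      Spec.map (CommRingCat.ofHom (AdjoinRoot.of (X ^ 2 - C (f.map φ) : A'[X][X]))) =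
        Spec.map (CommRingCat.ofHom (AdjoinRoot.of (X ^ 2 - C (f.map φ) : A'[X][X]))) := by
    rw [← Spec.map_comp, ← CommRingCat.ofHom_comp]
    congr 2
    exact RingHom.ext fun r => neg_of (f.map φ) r
  apply H.hom_ext
  · rw [Category.assoc, hσ, ← Category.assoc, hij, Category.assoc, Category.assoc, hiσ, hij, ← Category.assoc, d0,
      Category.assoc]
  · rw [Category.assoc, hσ', Category.assoc, hiπ, ← Category.assoc, o0]

lemma reverse_map_of_monic {A A' : Type u} [CommRing A] [CommRing A'] [Nontrivial A'] (φ : A →+* A') (f : A[X])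
    (hf : f.Monic) : (f.map φ).reverse = f.reverse.map φ := by
  rw [Polynomial.reverse, Polynomial.reverse, hf.natDegree_map, Polynomial.reflect_map]

/-- (DBLBC) base change of the double cover. -/
theorem doubleBC_main (h : K760.Hurw.P1BCStmt.{u}) : K760.Hurw.DoubleBCStmt.{u} := by
  intro A _ f hf P π σ hd A' _ _ φ P' j q' hj
  obtain ⟨n, hn, hn0, hn1⟩ := h A A' φ
  have w : (j ≫ π) ≫ CohB1.ProjSpace.toSpec 1 A = q' ≫ Spec.map (CommRingCat.ofHom φ) := by
    rw [Category.assoc, hj.w]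
  let π' : P' ⟶ CohB1.ProjSpace 1 A' := hn.lift (j ≫ π) q' w
  have h1 : π' ≫ n = j ≫ π := hn.lift_fst _ _ _
  have h2 : π' ≫ CohB1.ProjSpace.toSpec 1 A' = q' := hn.lift_snd _ _ _
  have H : IsPullback j π' π n := by
    refine IsPullback.of_bot ?_ h1.symm hn
    rw [h2]
    exact hj
  have w' : (j ≫ σ) ≫ π ≫ CohB1.ProjSpace.toSpec 1 A = q' ≫ Spec.map (CommRingCat.ofHom φ) := by
    rw [Category.assoc, ← Category.assoc σ, hd.over, hj.w]
  let σ' : P' ⟶ P' := hj.lift (j ≫ σ) q' w'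
  have h3 : σ' ≫ j = j ≫ σ := hj.lift_fst _ _ _
  have h4 : σ' ≫ q' = q' := hj.lift_snd _ _ _
  have h5 : σ' ≫ π' = π' := by
    apply hn.hom_ext
    · rw [Category.assoc, h1, ← Category.assoc, h3, Category.assoc, hd.over]
    · rw [Category.assoc, h2, h4]
  have h6 : σ' ≫ σ' = 𝟙 _ := by
    apply hj.hom_ext
    · rw [Category.assoc, h3, ← Category.assoc, h3, Category.assoc, hd.invol, Category.comp_id, Category.id_comp]
    · rw [Category.assoc, h4, h4, Category.id_comp]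
  refine ⟨π', σ', ⟨?_, h6, h5, bc_chart φ H h3 h5 hn0.w.symm f hd.chart0, ?_⟩, h2, h3, ?_⟩
  · have := hd.fin
    exact MorphismProperty.of_isPullback H inferInstance
  · have h7 := bc_chart φ H h3 h5 hn1.w.symm f.reverse hd.chart1
    rw [← reverse_map_of_monic φ f hf] at h7
    exact h7
  · intro n' e0 e1
    have e : n' = n := by
      apply P1Ov.hom_ext
      · exact e0.trans hn0.w
      · exact e1.trans hn1.w
    rw [e, h1]

end K681.Hurw
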